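import Cfsg.Agent.Lib.ThP.DSimple.Table
import Cfsg.Agent.Lib.ThP.Order
import Cfsg.Prelude.Def_Exceptional

/-!
`D = ⟨a, b, c, d, e, s⟩` in the group `P = ⟨a, b, c, d, e, s, t⟩` of the Thompson group cluster: simple of
order 211341312 (the order of `³D₄(2)`), of index 3, contained in the derived group, and the only proper
non-trivial normal subgroup of `P`.
-/

set_option autoImplicit false
set_option maxRecDepth 20000
set_option linter.style.haveILetI false

namespace Cfsg.Agent.Lib.ThP.DSimple

open Cfsg.Agent.Lib.CosetEnum Cfsg.Agent.Lib.ExactCover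

/-- The value of a letter. -/
noncomputable abbrev el (g : ℕ) : P := letters.phi pres g

/-- The subgroup `D = ⟨a, b, c, d, e, s⟩`. -/
noncomputable abbrev subD : Subgroup P := Dsub (el 0) (el 2) (el 4) (el 6) (el 8) (el 10)

theorem table_checked : tableCheck table = true := by decide +kernel

theorem val_singleton (g : ℕ) : val [g] = el g := mul_one _

theorem flip_pairs : ∀ g < 14, invL letters.IV g = if g % 2 = 0 then g + 1 else g - 1 := by
  decide +kernel

theorem el_inv (g : ℕ) (hg : g < 14) : el (if g % 2 = 0 then g + 1 else g - 1) = (el g)⁻¹ := by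
  rw [← flip_pairs g hg]
  exact val_flip hg

theorem rels : Rels P (el 0) (el 2) (el 4) (el 6) (el 8) (el 10) := by
  have key : ∀ u v : List ℕ, (∀ g ∈ u, g < 14) → (∀ g ∈ v, g < 14) → wordEq u v = true →
      val u = val v := wordEq_sound
  have e9 : el 9 = (el 8)⁻¹ := el_inv 8 (by omega)
  have e11 : el 11 = (el 10)⁻¹ := el_inv 10 (by omega)
  have h : ∀ p ∈ ([([0, 0], []), ([2, 2], []), ([4, 4], []), ([6, 6], []), ([8, 8], []),
      ([0, 2, 0, 2, 0, 2], []), ([2, 4, 2, 4, 2, 4], []), ([0, 8, 0, 8], []),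
      ([0], [4, 6, 4, 6, 4, 6, 4, 6]), ([6, 8, 6, 8, 6, 8], []),
      ((List.replicate 8 [2, 4, 6, 8]).flatten, []), ([10, 10, 10, 10, 10, 10, 10], []),
      ([10, 0], [0, 10]), ([10, 6, 10, 6], []), ([9, 11, 8, 10], [11, 11, 11, 8, 10, 10, 10])] :
      List (List ℕ × List ℕ)), val p.1 = val p.2 := by
    intro p hp
    refine key _ _ ?_ ?_ ?_ <;> revert p <;> decide +kernel
  simp only [List.forall_mem_cons] at h
  obtain ⟨h1, h2, h3, h4, h5, h6, h7, h8, h9, h10, h11, h12, h13, h14, h15, -⟩ := h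
  simp only [val, List.map_cons, List.map_nil, List.prod_cons, List.prod_nil, mul_one,
    List.replicate_succ, List.replicate_zero, List.flatten_cons, List.flatten_nil, List.cons_append,
    List.nil_append, e9, e11] at h1 h2 h3 h4 h5 h6 h7 h8 h9 h10 h11 h12 h13 h14 h15
  refine ⟨?_, ?_, ?_, ?_, ?_, ?_, ?_, ?_, ?_, ?_, ?_, ?_, h13, ?_, ?_⟩
  all_goals simp only [pow_succ, pow_zero, one_mul, mul_assoc, mul_inv_rev]
  exacts [h1, h2, h3, h4, h5, h6, h7, h8, h9, h10, h11, h12, h14, h15]

theorem rels_t : (∀ x ∈ ({el 0, el 2, el 4, el 6, el 8} : Set P), Commute (el 12) x) ∧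
    (el 12)⁻¹ * el 10 * el 12 = el 10 ^ 2 ∧ el 12 ^ 3 = 1 := by
  have h : ∀ p ∈ ([([12, 0], [0, 12]), ([12, 2], [2, 12]), ([12, 4], [4, 12]), ([12, 6], [6, 12]),
      ([12, 8], [8, 12]), ([13, 10, 12], [10, 10]), ([12, 12, 12], [])] :
      List (List ℕ × List ℕ)), val p.1 = val p.2 := by
    intro p hp
    refine wordEq_sound _ _ ?_ ?_ ?_ <;> revert p <;> decide +kernel
  simp only [List.forall_mem_cons] at h
  obtain ⟨h1, h2, h3, h4, h5, h6, h7, -⟩ := h
  have e13 : el 13 = (el 12)⁻¹ := el_inv 12 (by omega)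
  simp only [val, List.map_cons, List.map_nil, List.prod_cons, List.prod_nil, mul_one,
    e13] at h1 h2 h3 h4 h5 h6 h7
  refine ⟨fun x hx => ?_, ?_, ?_⟩
  · simp only [Set.mem_insert_iff, Set.mem_singleton_iff] at hx
    rcases hx with rfl | rfl | rfl | rfl | rfl <;> assumption
  · rw [pow_two, mul_assoc]; exact h6
  · rw [pow_succ, pow_two, mul_assoc]; exact h7

theorem gens_top :
    Subgroup.closure ({el 0, el 2, el 4, el 6, el 8, el 10, el 12} : Set P) = ⊤ := by
  rw [eq_top_iff, ← Letters.gen_closure (S := pres) letters_col, Subgroup.closure_le]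
  rintro x ⟨g, hg, rfl⟩
  have h0 : ∀ j < 7, el (2 * j) ∈ Subgroup.closure
      ({el 0, el 2, el 4, el 6, el 8, el 10, el 12} : Set P) := by
    intro j hj
    interval_cases j <;> exact Subgroup.subset_closure (by simp)
  have hK : g < 14 := hg
  rcases Nat.even_or_odd g with ⟨j, rfl⟩ | ⟨j, rfl⟩
  · rw [← two_mul]; exact h0 j (by omega)
  · have h := el_inv (2 * j) (by omega)
    rw [if_pos (by omega)] at h
    rw [SetLike.mem_coe, show letters.phi pres (2 * j + 1) = (el (2 * j))⁻¹ from h]
    exact Subgroup.inv_mem _ (h0 j (by omega))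

theorem exists_chi : ∃ f : P →* Multiplicative (ZMod 3), f (el 12) ≠ 1 ∧
    ∀ x ∈ ({el 0, el 2, el 4, el 6, el 8, el 10} : Set P), f x = 1 := by
  let v : Fin 7 → Multiplicative (ZMod 3) := fun i => if i = 6 then Multiplicative.ofAdd 1 else 1
  have hl : ∀ l ∈ relWords, ((l.map (stdSym 7)).map fun x => cond x.2 (v x.1) (v x.1)⁻¹).prod = 1 := by
    decide +kernel
  have hv : ∀ r ∈ pres, FreeGroup.lift v r = 1 := by
    intro r hr
    obtain ⟨l, hm, rfl⟩ := List.mem_map.1 hr
    rw [FreeGroup.lift_mk]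
    exact hl l hm
  have he : ∀ g < 14, PresentedGroup.toGroup hv (el g) = cond (stdSym 7 g).2 (v (stdSym 7 g).1)
      (v (stdSym 7 g).1)⁻¹ := by
    intro g hg
    rw [el, Letters.phi_of_lt (show g < letters.K from hg)]
    change FreeGroup.lift v (FreeGroup.mk [stdSym 7 g]) = _
    simp
  refine ⟨PresentedGroup.toGroup hv, ?_, fun x hx => ?_⟩
  · rw [he 12 (by omega)]; decide +kernel
  · simp only [Set.mem_insert_iff, Set.mem_singleton_iff] at hx
    rcases hx with rfl | rfl | rfl | rfl | rfl | rfl <;> (rw [he _ (by omega)]; decide +kernel)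

theorem stab_iff (g : P) : act g 0 = 0 ↔
    g ∈ Subgroup.closure ({el 0, el 4, el 6, el 8, el 10, el 12} : Set P) := by
  have hC : subC = Subgroup.closure ({el 0, el 4, el 6, el 8, el 10, el 12} : Set P) := by
    rw [subC, subOf]
    congr 1
    ext x
    simp only [show Index.subWords = [[0], [4], [6], [8], [10], [12]] from rfl, List.mem_cons,
      List.not_mem_nil, or_false, Set.mem_ofPred_eq, Set.mem_insert_iff, Set.mem_singleton_iff]
    constructor
    · rintro ⟨l, rfl | rfl | rfl | rfl | rfl | rfl, rfl⟩ <;> simp [el]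
    · rintro (rfl | rfl | rfl | rfl | rfl | rfl)
      · exact ⟨[0], by simp, mul_one _⟩
      · exact ⟨[4], by simp, mul_one _⟩
      · exact ⟨[6], by simp, mul_one _⟩
      · exact ⟨[8], by simp, mul_one _⟩
      · exact ⟨[10], by simp, mul_one _⟩
      · exact ⟨[12], by simp, mul_one _⟩
  rw [← hC, mem_subC_iff]
  rfl

theorem setup : Setup (el 0) (el 2) (el 4) (el 6) (el 8) (el 10) (el 12) act 0 :=
  setup_of_table (T := table) (φ := el) act_phi el_inv rels rels_t.1 rels_t.2.1 rels_t.2.2 gens_top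
    exists_chi act_injective stab_iff table_checked

theorem index_subD : subD.index = 3 := setup.index_eq_three

theorem card_subD : Nat.card subD = 211341312 := by
  have h := subD.card_mul_index
  rw [index_subD, card_P] at h
  omega

theorem isSimple_subD : IsSimpleGroup subD := setup.isSimple

theorem perfect_subD : commutator subD = ⊤ := setup.perfect

theorem subD_le_commutator : subD ≤ commutator P := setup.le_commutator

theorem subD_normal : subD.Normal := setup.D_normal

theorem normal_cases (K : Subgroup P) (hK : K.Normal) : K = ⊥ ∨ K = subD ∨ K = ⊤ :=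
  setup.normal_cases K hK

/-- `D` has the order of the Steinberg triality group over the field of two elements and is simple. -/
theorem is3D4_subD : Cfsg.Is3D4 subD :=
  ⟨isSimple_subD, 2, Nat.prime_two.isPrimePow, by rw [card_subD]; norm_num⟩

end Cfsg.Agent.Lib.ThP.DSimple
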