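import Cfsg.Agent.Lib.CosetEnum.Prim

/-!
Orbit forests for permutation tables: every point is a root or one of the listed words leads it to a point
of smaller depth, so the subgroup generated by the words carries some root to it.
-/

set_option autoImplicit false

namespace Cfsg.Agent.Lib.ThP.DSimple

open Cfsg.Agent.Lib.CosetEnum

/-- The depth of a point. -/
noncomputable def depth (C : PTree) (x : ℕ) : ℕ := Nat.div (get32 C x) 16

/-- A single step of the forest. -/
noncomputable def stepAt (K N : ℕ) (T C : PTree) (ws : List (List ℕ)) (roots : List ℕ) (x : ℕ) : Bool :=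
  force (get32 C x) fun c =>
    decide (x ∈ roots) || force (Nat.mod c 16) fun j =>
      Nat.blt j ws.length &&
        force (scan K T (ws.getD j []) x) fun y =>
          Nat.blt y N && Nat.blt (depth C y) (Nat.div c 16)

/-- Inverse word, for letters paired as `g`, `g xor 1`. -/
def invWord (l : List ℕ) : List ℕ := (l.map fun g => if g % 2 = 0 then g + 1 else g - 1).reverse

variable {P : Type*} [Group P] {K N : ℕ} {T C : PTree} {φ : ℕ → P} {ρ : P →* Equiv.Perm (Fin N)}

/-- The table describes the action of the letters. -/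
def Acts (K : ℕ) (T : PTree) (φ : ℕ → P) (ρ : P →* Equiv.Perm (Fin N)) : Prop :=
  ∀ g < K, ∀ i : Fin N, ((ρ (φ g))⁻¹ i).1 = get32 T (i.1 * K + g)

theorem Acts.word (hρ : Acts K T φ ρ) :
    ∀ l : List ℕ, (∀ g ∈ l, g < K) → ∀ i : Fin N, ((ρ (l.map φ).prod)⁻¹ i).1 = scan K T l i.1 := by
  intro l
  induction l with
  | nil => intro _ i; simp [scan]
  | cons g l ih =>
    intro hl i
    rw [List.map_cons, List.prod_cons, map_mul, mul_inv_rev, Equiv.Perm.mul_apply,
      ih (fun x hx => hl x (List.mem_cons_of_mem _ hx)), hρ g (hl g List.mem_cons_self)]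
    change scan K T l (get32 T (i.1 * K + g)) = force (get32 T (Nat.add (Nat.mul i.1 K) g)) (scan K T l)
    rw [force_eq]; rfl

theorem forest_sound (hρ : Acts K T φ ρ) (S : Subgroup P) (ws : List (List ℕ)) (roots : List ℕ)
    (hlt : ∀ w ∈ ws, ∀ g ∈ w, g < K) (hws : ∀ w ∈ ws, (w.map φ).prod ∈ S) (skip : ℕ → Prop)
    (h : ∀ x < N, skip x ∨ stepAt K N T C ws roots x = true)
    (hskip : ∀ x y : Fin N, ¬ skip x.1 → (∃ g ∈ S, ρ g y = x) → ¬ skip y.1) :
    ∀ x : Fin N, ¬ skip x.1 → ∃ g ∈ S, ∃ r : Fin N, r.1 ∈ roots ∧ ρ g r = x := by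
  suffices ∀ n, ∀ x : Fin N, depth C x.1 = n → ¬ skip x.1 →
      ∃ g ∈ S, ∃ r : Fin N, r.1 ∈ roots ∧ ρ g r = x from fun x => this _ x rfl
  intro n
  induction n using Nat.strong_induction_on with
  | _ n ih =>
    intro x hxn hsk
    have hx := (h x.1 x.2).resolve_left hsk
    simp only [stepAt, force_eq, Bool.or_eq_true, Bool.and_eq_true, decide_eq_true_eq, Nat.blt_eq] at hx
    rcases hx with hx | ⟨hj, hy, hd⟩
    · exact ⟨1, S.one_mem, x, hx, by simp⟩
    generalize Nat.mod (get32 C x.1) 16 = j at hj hy hd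
    have hm : ws.getD j [] ∈ ws := by
      rw [List.getD_eq_getElem _ _ hj]; exact List.getElem_mem hj
    generalize ws.getD j [] = w at hm hy hd
    let y : Fin N := ⟨scan K T w x.1, hy⟩
    have hyx : ρ (w.map φ).prod y = x := by
      have hy' : (ρ (w.map φ).prod)⁻¹ x = y := Fin.ext (hρ.word w (hlt w hm) x)
      rw [← hy', Equiv.Perm.inv_def, Equiv.apply_symm_apply]
    obtain ⟨g, hg, r, hr, hgr⟩ := ih (depth C y.1) (by rw [← hxn]; exact hd) y rfl
      (hskip x y hsk ⟨_, hws w hm, hyx⟩)
    exact ⟨_, S.mul_mem (hws w hm) hg, r, hr, by rw [map_mul, Equiv.Perm.mul_apply, hgr, hyx]⟩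

theorem prod_invWord (hinv : ∀ g < K, φ (if g % 2 = 0 then g + 1 else g - 1) = (φ g)⁻¹) :
    ∀ l : List ℕ, (∀ g ∈ l, g < K) → ((invWord l).map φ).prod = ((l.map φ).prod)⁻¹ := by
  intro l
  induction l with
  | nil => intro _; simp [invWord]
  | cons g l ih =>
    intro hl
    have := ih fun x hx => hl x (List.mem_cons_of_mem _ hx)
    simp only [invWord, List.map_cons, List.reverse_cons, List.map_append, List.prod_append,
      List.map_nil, List.prod_cons, List.prod_nil, mul_one, mul_inv_rev] at this ⊢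
    rw [this, hinv g (hl g List.mem_cons_self)]

end Cfsg.Agent.Lib.ThP.DSimple
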