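import Mathlib

/-!
Thompson group cluster, the subgroup `D = ⟨a, b, c, d, e, s⟩` of `P = ⟨a, b, c, d, e, s, t⟩`.

From the relators alone: in every group in which the image of `a` is central the images of `a, …, e, s`
are trivial. Together with a faithful transitive action in which the stabiliser centralises `a` and is
maximal in `D`, this gives that `D` is perfect and simple (Iwasawa's argument), of index 3, and that the
normal subgroups of `P` are `⊥`, `D` and `⊤`.
-/

set_option autoImplicit false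
set_option linter.style.haveILetI false
set_option linter.unusedSectionVars false

namespace Cfsg.Agent.Lib.ThP.DSimple

/-- The relations among `a, …, e, s` that are used. -/
structure Rels (G : Type*) [Group G] (a b c d e s : G) : Prop where
  a2 : a ^ 2 = 1
  b2 : b ^ 2 = 1
  c2 : c ^ 2 = 1
  d2 : d ^ 2 = 1
  e2 : e ^ 2 = 1
  ab3 : (a * b) ^ 3 = 1
  bc3 : (b * c) ^ 3 = 1
  ae2 : (a * e) ^ 2 = 1
  acd : a = (c * d) ^ 4
  de3 : (d * e) ^ 3 = 1
  bcde8 : (b * c * d * e) ^ 8 = 1
  s7 : s ^ 7 = 1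
  sa : s * a = a * s
  sd2 : (s * d) ^ 2 = 1
  es : e⁻¹ * s⁻¹ * e * s = (s ^ 3)⁻¹ * e * s ^ 3

variable {G Q : Type*} [Group G] [Group Q] {a b c d e s : G}

theorem inv_eq_self {x : Q} (hx : x ^ 2 = 1) : x⁻¹ = x :=
  inv_eq_of_mul_eq_one_right (by rw [← pow_two, hx])

/-- Two involutions with `(x y)^3 = 1` are equal when they commute. -/
theorem eq_of_commute {x y : Q} (h : Commute x y) (hx : x ^ 2 = 1) (hy : y ^ 2 = 1)
    (h3 : (x * y) ^ 3 = 1) : x = y := by
  rw [h.mul_pow, pow_succ x 2, pow_succ y 2, hx, hy, one_mul, one_mul] at h3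
  rw [eq_inv_of_mul_eq_one_left h3, inv_eq_self hy]

theorem Rels.map (R : Rels G a b c d e s) (f : G →* Q) : Rels Q (f a) (f b) (f c) (f d) (f e) (f s) := by
  constructor <;>
    first
    | (rw [← map_pow, R.a2, map_one])
    | (rw [← map_pow, R.b2, map_one])
    | (rw [← map_pow, R.c2, map_one])
    | (rw [← map_pow, R.d2, map_one])
    | (rw [← map_pow, R.e2, map_one])
    | (rw [← map_pow, R.s7, map_one])
    | (rw [← map_mul, ← map_pow, R.ab3, map_one])
    | (rw [← map_mul, ← map_pow, R.bc3, map_one])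
    | (rw [← map_mul, ← map_pow, R.ae2, map_one])
    | (rw [← map_mul, ← map_pow, ← R.acd])
    | (rw [← map_mul, ← map_pow, R.de3, map_one])
    | (rw [← map_mul, ← map_mul, ← map_mul, ← map_pow, R.bcde8, map_one])
    | (rw [← map_mul, ← map_mul, R.sa])
    | (rw [← map_mul, ← map_pow, R.sd2, map_one])
    | (simp only [← map_pow, ← map_inv, ← map_mul, R.es])

/-- If `a` commutes with `b` and `d`, then everything collapses. -/
theorem Rels.collapse {A B C D E S : Q} (R : Rels Q A B C D E S) (hc : ∀ x ∈ ({B, C, D} : Set Q), Commute A x) :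
    A = 1 ∧ B = 1 ∧ C = 1 ∧ D = 1 ∧ E = 1 ∧ S = 1 := by
  have hab : A = B := eq_of_commute (hc B (by simp)) R.a2 R.b2 R.ab3
  have hbc : B = C := eq_of_commute (hab ▸ hc C (by simp)) R.b2 R.c2 R.bc3
  have hA : A = 1 := by
    have h : (A * D) ^ 4 = 1 := by
      rw [(hc D (by simp)).mul_pow, show 4 = 2 * 2 from rfl, pow_mul, pow_mul, R.a2, R.d2]
      simp
    have h4 := R.acd
    rw [← hbc, ← hab, h] at h4
    exact h4
  have hB : B = 1 := hab ▸ hA
  have hC : C = 1 := hbc ▸ hB
  have h8 := R.bcde8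
  rw [hB, hC, one_mul, one_mul] at h8
  have hde : D * E = 1 := by
    have h9 : (D * E) ^ 9 = 1 := by rw [show 9 = 3 * 3 from rfl, pow_mul, R.de3, one_pow]
    rwa [pow_succ, h8, one_mul] at h9
  have hDE : D = E := by rw [eq_inv_of_mul_eq_one_left hde, inv_eq_self R.e2]
  have hDS : E * S * E = S⁻¹ := by
    have h := R.sd2
    rw [hDE, pow_two] at h
    rw [eq_inv_iff_mul_eq_one]
    calc E * S * E * S = S⁻¹ * (S * E * (S * E)) * S := by group
      _ = 1 := by rw [h]; group
  have hEE : E * E = 1 := by rw [← pow_two, R.e2]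
  have hswap : ∀ n : ℕ, E * S ^ n = (S ^ n)⁻¹ * E := fun n => by
    induction n with
    | zero => simp
    | succ n ih =>
      have h1 : E * S = S⁻¹ * E := by
        calc E * S = E * S * E * E := by rw [mul_assoc (E * S), hEE, mul_one]
          _ = S⁻¹ * E := by rw [hDS]
      rw [pow_succ, ← mul_assoc, ih, mul_assoc, h1, ← mul_assoc, ← mul_inv_rev, ← pow_succ', pow_succ]
  have hes := R.es
  have hES : E * S⁻¹ * E = S := by
    have := congrArg Inv.inv hDS
    rwa [mul_inv_rev, mul_inv_rev, inv_inv, inv_eq_self R.e2, ← mul_assoc] at this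
  rw [inv_eq_self R.e2, hES, mul_assoc, hswap 3, ← mul_assoc, ← mul_inv_rev, ← pow_add, ← pow_two] at hes
  have hS8 : E = S := by
    have h1 : E = S ^ (3 + 3) * S ^ 2 := by rw [hes]; group
    rw [← pow_add, show 3 + 3 + 2 = 7 + 1 from rfl, pow_add, R.s7, one_mul, pow_one] at h1
    exact h1
  have hS : S = 1 := by
    have h2 : S ^ 2 = 1 := hS8 ▸ R.e2
    have h7 := R.s7
    rw [show 7 = 2 * 3 + 1 from rfl, pow_add, pow_mul, h2, one_pow, one_mul, pow_one] at h7
    exact h7
  have hE : E = 1 := hS8.trans hS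
  exact ⟨hA, hB, hC, hDE.trans hE, hE, hS⟩

/-- `a` commutes with `c`, `d`, `e`, `s`. -/
theorem Rels.commute (R : Rels G a b c d e s) :
    ∀ x ∈ ({a, c, d, e, s} : Set G), Commute a x := by
  have key : ∀ x y : G, x ^ 2 = 1 → y ^ 2 = 1 → ((x * y) ^ 4) ^ 2 = 1 → Commute ((x * y) ^ 4) x ∧
      Commute ((x * y) ^ 4) y := by
    intro x y hx hy h8
    have hz : ((x * y) ^ 4)⁻¹ = (x * y) ^ 4 := inv_eq_self h8
    have hxx : x * x = 1 := by rw [← pow_two, hx]
    have hyy : y * y = 1 := by rw [← pow_two, hy]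
    have e1 : x * (x * y) ^ 4 * x = ((x * y) ^ 4)⁻¹ := by
      rw [← inv_pow, mul_inv_rev, inv_eq_self hx, inv_eq_self hy]
      have h := conj_pow (i := 4) (a := x) (b := x * y)
      rw [inv_eq_self hx] at h
      rw [← h]
      simp only [← mul_assoc, hxx, one_mul]
    have e2 : y * (x * y) ^ 4 * y = ((x * y) ^ 4)⁻¹ := by
      rw [← inv_pow, mul_inv_rev, inv_eq_self hx, inv_eq_self hy]
      have h := conj_pow (i := 4) (a := y) (b := x * y)
      rw [inv_eq_self hy] at h
      rw [← h]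
      simp only [mul_assoc, hyy, mul_one]
    rw [hz] at e1 e2
    constructor
    · change (x * y) ^ 4 * x = x * (x * y) ^ 4
      calc (x * y) ^ 4 * x = x * (x * y) ^ 4 * x * x := by rw [e1]
        _ = _ := by rw [mul_assoc _ x x, hxx, mul_one]
    · change (x * y) ^ 4 * y = y * (x * y) ^ 4
      calc (x * y) ^ 4 * y = y * (x * y) ^ 4 * y * y := by rw [e2]
        _ = _ := by rw [mul_assoc _ y y, hyy, mul_one]
  obtain ⟨hc, hd⟩ := key c d R.c2 R.d2 (by rw [← R.acd, R.a2])
  rw [← R.acd] at hc hd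
  rintro x (rfl | rfl | rfl | rfl | rfl)
  · exact Commute.refl _
  · exact hc
  · exact hd
  · change a * x = x * a
    have h := R.ae2
    rw [pow_two, mul_eq_one_iff_eq_inv, mul_inv_rev, inv_eq_self R.e2, inv_eq_self R.a2] at h
    exact h
  · exact R.sa.symm

section Action

variable {P : Type*} [Group P] [Finite P] {N : ℕ} (a b c d e s t : P) (ρ : P →* Equiv.Perm (Fin N))
  (x₀ : Fin N)

/-- The subgroup `D`. -/
def Dsub : Subgroup P := Subgroup.closure {a, b, c, d, e, s}

/-- The stabiliser generators other than `t`. -/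
def Lsub : Subgroup P := Subgroup.closure {a, c, d, e, s}

theorem Lsub_le : Lsub a c d e s ≤ Dsub a b c d e s :=
  Subgroup.closure_mono (by
    intro x hx
    simp only [Set.mem_insert_iff, Set.mem_singleton_iff] at hx ⊢
    tauto)

theorem Dsub_gens : a ∈ Dsub a b c d e s ∧ b ∈ Dsub a b c d e s ∧ c ∈ Dsub a b c d e s ∧
    d ∈ Dsub a b c d e s ∧ e ∈ Dsub a b c d e s ∧ s ∈ Dsub a b c d e s := by
  refine ⟨?_, ?_, ?_, ?_, ?_, ?_⟩ <;> exact Subgroup.subset_closure (by simp)

theorem le_Dsub_bot {D' : Type*} [Group D'] (f : Dsub a b c d e s →* D')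
    (h : ∀ x : Dsub a b c d e s, (x : P) ∈ ({a, b, c, d, e, s} : Set P) → f x = 1) : f = 1 := by
  refine MonoidHom.ext fun x => ?_
  obtain ⟨x, hx⟩ := x
  induction hx using Subgroup.closure_induction with
  | mem y hy => exact h ⟨y, _⟩ hy
  | one => exact map_one f
  | mul y z hy hz iy iz =>
    have : f (⟨y, hy⟩ * ⟨z, hz⟩) = 1 := by rw [map_mul, iy, iz]; simp
    exact this
  | inv y hy iy =>
    have : f (⟨y, hy⟩ : Dsub a b c d e s)⁻¹ = 1 := by rw [map_inv, iy]; simp
    exact this

/-- All the hypotheses on the group and its action. -/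
structure Setup : Prop where
  rels : Rels P a b c d e s
  tc : ∀ x ∈ ({a, b, c, d, e} : Set P), Commute t x
  st : t⁻¹ * s * t = s ^ 2
  t3 : t ^ 3 = 1
  gen : Subgroup.closure ({a, b, c, d, e, s, t} : Set P) = ⊤
  chi : ∃ f : P →* Multiplicative (ZMod 3), f t ≠ 1 ∧ ∀ x ∈ ({a, b, c, d, e, s} : Set P), f x = 1
  inj : Function.Injective ρ
  stab : ∀ g : P, ρ g x₀ = x₀ ↔ g ∈ Subgroup.closure ({a, c, d, e, s, t} : Set P)
  cover : ∀ x, x ≠ x₀ → ∃ h ∈ Lsub a c d e s, ∃ w ∈ Dsub a b c d e s, ρ h x = ρ w x₀ ∧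
    ∀ y, ∃ g ∈ Subgroup.closure ({a, c, d, e, s, w} : Set P), ρ g x₀ = y
  moved : ∀ x, x ≠ x₀ → ∃ g ∈ Lsub a c d e s, ρ g x ≠ x
  two : ∃ x, x ≠ x₀

variable {a b c d e s t ρ x₀}

namespace Setup

variable (S : Setup a b c d e s t ρ x₀)
include S

theorem stab_comm {g : P} (hg : ρ g x₀ = x₀) : Commute a g := by
  have hg' := (S.stab g).1 hg
  revert hg'
  suffices Subgroup.closure ({a, c, d, e, s, t} : Set P) ≤ Subgroup.centralizer {a} from
    fun h => (Subgroup.mem_centralizer_iff.1 (this h) a rfl)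
  rw [Subgroup.closure_le]
  intro x hx
  rw [SetLike.mem_coe, Subgroup.mem_centralizer_iff]
  rintro y rfl
  simp only [Set.mem_insert_iff, Set.mem_singleton_iff] at hx
  rcases hx with hx | hx | hx | hx | hx | hx
  on_goal 6 => exact hx ▸ (S.tc _ (Set.mem_insert _ _)).symm
  all_goals exact S.rels.commute x (by simp [hx])

theorem L_fix {g : P} (hg : g ∈ Lsub a c d e s) : ρ g x₀ = x₀ :=
  (S.stab g).2 (Subgroup.closure_mono (by
    intro x hx
    simp only [Set.mem_insert_iff, Set.mem_singleton_iff] at hx ⊢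
    tauto) hg)

theorem transitive (y : Fin N) : ∃ g ∈ Dsub a b c d e s, ρ g x₀ = y := by
  obtain ⟨x, hx⟩ := S.two
  obtain ⟨h, -, w, hw, -, htr⟩ := S.cover x hx
  obtain ⟨g, hg, hgy⟩ := htr y
  refine ⟨g, ?_, hgy⟩
  revert hg
  suffices Subgroup.closure ({a, c, d, e, s, w} : Set P) ≤ Dsub a b c d e s from fun h => this h
  rw [Subgroup.closure_le]
  obtain ⟨ha, hb, hc, hd, he, hs⟩ := Dsub_gens a b c d e s
  intro u hu
  simp only [Set.mem_insert_iff, Set.mem_singleton_iff] at hu
  rcases hu with hu | hu | hu | hu | hu | hu <;> subst hu <;> assumption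

theorem maximal (M : Subgroup P) (hMD : M ≤ Dsub a b c d e s)
    (hst : ∀ g ∈ Dsub a b c d e s, ρ g x₀ = x₀ → g ∈ M) {g₀ : P} (hg₀ : g₀ ∈ M)
    (hne : ρ g₀ x₀ ≠ x₀) : Dsub a b c d e s ≤ M := by
  obtain ⟨h, hh, w, hw, hhw, htr⟩ := S.cover _ hne
  have hhM : h ∈ M := hst h (Lsub_le a b c d e s hh) (S.L_fix hh)
  have hwM : w ∈ M := by
    have hfix : ρ ((h * g₀)⁻¹ * w) x₀ = x₀ := by
      rw [map_mul, map_inv, map_mul, Equiv.Perm.mul_apply, ← hhw, Equiv.Perm.inv_def,
        Equiv.symm_apply_eq]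
      rfl
    have hm := hst _ ((Dsub a b c d e s).mul_mem
      ((Dsub a b c d e s).inv_mem (hMD (M.mul_mem hhM hg₀))) hw) hfix
    have h2 := M.mul_mem (M.mul_mem hhM hg₀) hm
    rwa [mul_inv_cancel_left] at h2
  have hle : Subgroup.closure ({a, c, d, e, s, w} : Set P) ≤ M := by
    rw [Subgroup.closure_le]
    intro u hu
    simp only [Set.mem_insert_iff, Set.mem_singleton_iff] at hu
    have hL : ∀ v ∈ ({a, c, d, e, s} : Set P), v ∈ M := fun v hv =>
      hst v (Lsub_le a b c d e s (Subgroup.subset_closure hv)) (S.L_fix (Subgroup.subset_closure hv))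
    rcases hu with hu | hu | hu | hu | hu | hu
    on_goal 6 => exact hu ▸ hwM
    all_goals exact hL u (by simp [hu])
  intro g hg
  obtain ⟨m, hm, hmy⟩ := htr (ρ g x₀)
  have hmM := hle hm
  have hfix : ρ (m⁻¹ * g) x₀ = x₀ := by
    rw [map_mul, map_inv, Equiv.Perm.mul_apply, ← hmy, Equiv.Perm.inv_def, Equiv.symm_apply_apply]
  simpa using M.mul_mem hmM (hst _ ((Dsub a b c d e s).mul_mem
    ((Dsub a b c d e s).inv_mem (hMD hmM)) hg) hfix)

theorem eq_one_of_fix {g : P} (h : ∀ y, ρ g y = y) : g = 1 :=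
  S.inj (by rw [map_one]; exact Equiv.ext h)

theorem collapse_hom {Q : Type*} [Group Q] (f : Dsub a b c d e s →* Q)
    (hc : ∀ x : Dsub a b c d e s,
      Commute (f ⟨a, (Dsub_gens a b c d e s).1⟩) (f x)) : f = 1 := by
  obtain ⟨ha, hb, hc', hd, he, hs⟩ := Dsub_gens a b c d e s
  have R : Rels (Dsub a b c d e s) ⟨a, ha⟩ ⟨b, hb⟩ ⟨c, hc'⟩ ⟨d, hd⟩ ⟨e, he⟩ ⟨s, hs⟩ := by
    obtain ⟨r1, r2, r3, r4, r5, r6, r7, r8, r9, r10, r11, r12, r13, r14, r15⟩ := S.rels
    constructor <;> apply Subtype.ext <;> simpa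
  obtain ⟨h1, h2, h3, h4, h5, h6⟩ := (R.map f).collapse fun x hx => by
    simp only [Set.mem_insert_iff, Set.mem_singleton_iff] at hx
    rcases hx with rfl | rfl | rfl <;> exact hc _
  refine le_Dsub_bot a b c d e s f fun x hx => ?_
  simp only [Set.mem_insert_iff, Set.mem_singleton_iff] at hx
  obtain ⟨x, hxm⟩ := x
  rcases hx with hx | hx | hx | hx | hx | hx
  · exact (congrArg f (Subtype.ext hx)).trans h1
  · exact (congrArg f (Subtype.ext hx)).trans h2
  · exact (congrArg f (Subtype.ext hx)).trans h3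
  · exact (congrArg f (Subtype.ext hx)).trans h4
  · exact (congrArg f (Subtype.ext hx)).trans h5
  · exact (congrArg f (Subtype.ext hx)).trans h6

theorem nontrivial : Nontrivial (Dsub a b c d e s) := by
  obtain ⟨x, hx⟩ := S.two
  obtain ⟨g, hg, hgx⟩ := S.transitive x
  refine ⟨⟨g, hg⟩, 1, fun h => hx ?_⟩
  have hg1 : g = 1 := congrArg Subtype.val h
  rw [← hgx, hg1, map_one, Equiv.Perm.one_apply]

theorem perfect : commutator (Dsub a b c d e s) = ⊤ := by
  have h := S.collapse_hom (Abelianization.of : Dsub a b c d e s →* _) (fun x => Commute.all _ _)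
  rw [← Abelianization.ker_of, h, MonoidHom.ker_one]

theorem isSimple : IsSimpleGroup (Dsub a b c d e s) := by
  haveI := S.nontrivial
  refine ⟨fun K hK => ?_⟩
  by_cases hfix : ∀ g ∈ K, ρ (g : P) x₀ = x₀
  · left
    rw [eq_bot_iff]
    intro n hn
    rw [Subgroup.mem_bot]
    refine Subtype.ext (S.eq_one_of_fix fun y => ?_)
    obtain ⟨g, hg, rfl⟩ := S.transitive y
    have h := hfix _ (hK.conj_mem n hn (⟨g, hg⟩ : Dsub a b c d e s)⁻¹)
    simp only [inv_inv, Subgroup.coe_mul, InvMemClass.coe_inv, map_mul, map_inv,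
      Equiv.Perm.mul_apply] at h
    rwa [Equiv.Perm.inv_def, Equiv.symm_apply_eq] at h
  · right
    push Not at hfix
    obtain ⟨g₀, hg₀, hne⟩ := hfix
    let D₀ : Subgroup (Dsub a b c d e s) :=
      { carrier := {x | ρ (x : P) x₀ = x₀}
        one_mem' := by simp
        mul_mem' := fun {x y} (hx : ρ (x : P) x₀ = x₀) (hy : ρ (y : P) x₀ = x₀) => by
          change ρ ((x * y : Dsub a b c d e s) : P) x₀ = x₀
          rw [Subgroup.coe_mul, map_mul, Equiv.Perm.mul_apply, hy, hx]
        inv_mem' := fun {x} (hx : ρ (x : P) x₀ = x₀) => by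
          change ρ ((x⁻¹ : Dsub a b c d e s) : P) x₀ = x₀
          rw [InvMemClass.coe_inv, map_inv, Equiv.Perm.inv_def, Equiv.symm_apply_eq, hx] }
    let M := (K ⊔ D₀).map (Dsub a b c d e s).subtype
    have hM : Dsub a b c d e s ≤ M :=
      S.maximal M (Subgroup.map_subtype_le _)
        (fun g hg hgx => ⟨⟨g, hg⟩, le_sup_right (a := K) hgx, rfl⟩)
        ⟨g₀, le_sup_left (b := D₀) hg₀, rfl⟩ hne
    have hsup : K ⊔ D₀ = ⊤ := by
      rw [eq_top_iff]
      intro x _
      obtain ⟨y, hy, hyx⟩ := hM x.2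
      rwa [← Subtype.ext hyx]
    haveI := hK
    have hf := S.collapse_hom (QuotientGroup.mk' K) fun x => by
      have hx : x ∈ (K ⊔ D₀ : Subgroup _) := by rw [hsup]; trivial
      rw [← SetLike.mem_coe, Subgroup.normal_mul K D₀] at hx
      obtain ⟨k, hk, m, hm, rfl⟩ := hx
      change Commute _ (QuotientGroup.mk' K (k * m))
      rw [map_mul, show QuotientGroup.mk' K k = 1 from (QuotientGroup.eq_one_iff k).2 hk, one_mul]
      exact (show Commute (⟨a, (Dsub_gens a b c d e s).1⟩ : Dsub a b c d e s) m from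
        Subtype.ext (S.stab_comm hm)).map _
    rw [← QuotientGroup.ker_mk' K, hf, MonoidHom.ker_one]

theorem D_normal : (Dsub a b c d e s).Normal := by
  obtain ⟨ha, hb, hc, hd, he, hs⟩ := Dsub_gens a b c d e s
  have hmap : ∀ g ∈ Dsub a b c d e s, t⁻¹ * g * t ∈ Dsub a b c d e s := by
    intro g hg
    induction hg using Subgroup.closure_induction with
    | mem y hy =>
      have hy' : y ∈ Dsub a b c d e s := Subgroup.subset_closure hy
      simp only [Set.mem_insert_iff, Set.mem_singleton_iff] at hy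
      rcases hy with hy | hy | hy | hy | hy | hy
      on_goal 6 => rw [hy, S.st]; exact Subgroup.pow_mem _ hs 2
      all_goals rwa [mul_assoc, ← (S.tc y (by simp [hy])).eq, inv_mul_cancel_left]
    | one => simp
    | mul y z _ _ iy iz =>
      rw [show t⁻¹ * (y * z) * t = t⁻¹ * y * t * (t⁻¹ * z * t) by group]
      exact Subgroup.mul_mem _ iy iz
    | inv y _ iy =>
      rw [show t⁻¹ * y⁻¹ * t = (t⁻¹ * y * t)⁻¹ by group]
      exact Subgroup.inv_mem _ iy
  have ht : t ∈ Subgroup.normalizer (Dsub a b c d e s : Set P) := by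
    rw [Subgroup.mem_normalizer_iff]
    intro g
    constructor
    · intro hg
      have h := hmap _ (hmap _ hg)
      have ht2 : t * t = t⁻¹ := by
        rw [eq_inv_iff_mul_eq_one, ← S.t3, pow_succ, pow_two]
      have ht3 : t⁻¹ * t⁻¹ = t := by rw [← mul_inv_rev, ht2, inv_inv]
      simp only [← mul_assoc, ht3] at h
      rwa [mul_assoc (t * g), ht2] at h
    · intro hg
      simpa [mul_assoc] using hmap _ hg
  rw [← Subgroup.normalizer_eq_top_iff, eq_top_iff, ← S.gen, Subgroup.closure_le]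
  intro x hx
  simp only [Set.mem_insert_iff, Set.mem_singleton_iff] at hx
  rcases hx with hx | hx | hx | hx | hx | hx | hx <;> subst hx
  on_goal 7 => exact ht
  all_goals exact Subgroup.le_normalizer (by assumption)

theorem index_eq_three : (Dsub a b c d e s).index = 3 := by
  obtain ⟨f, hft, hf⟩ := S.chi
  haveI := S.D_normal
  have hker : f.ker = Dsub a b c d e s := by
    refine le_antisymm (fun g hg => ?_) ((Subgroup.closure_le _).2 fun x hx => hf x hx)
    have hg' : g ∈ Dsub a b c d e s ⊔ Subgroup.zpowers t := by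
      have : (⊤ : Subgroup P) ≤ Dsub a b c d e s ⊔ Subgroup.zpowers t := by
        rw [← S.gen, Subgroup.closure_le]
        intro x hx
        simp only [Set.mem_insert_iff, Set.mem_singleton_iff] at hx
        rcases hx with hx | hx | hx | hx | hx | hx | hx
        on_goal 7 => exact Subgroup.mem_sup_right (hx ▸ Subgroup.mem_zpowers t)
        all_goals exact Subgroup.mem_sup_left (Subgroup.subset_closure (by simp [hx]))
      exact this (Subgroup.mem_top g)
    rw [← SetLike.mem_coe, Subgroup.normal_mul (Dsub a b c d e s) (Subgroup.zpowers t)] at hg'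
    obtain ⟨δ, hδ, u, ⟨k, rfl⟩, rfl⟩ := hg'
    have h1 : f δ = 1 := by
      have h : Dsub a b c d e s ≤ f.ker := (Subgroup.closure_le _).2 fun x hx => hf x hx
      exact h hδ
    rw [MonoidHom.mem_ker, map_mul, h1, one_mul, map_zpow] at hg
    have ho : orderOf (f t) = 3 := by
      apply orderOf_eq_prime
      · rw [← map_pow, S.t3, map_one]
      · exact hft
    have hk : (3 : ℤ) ∣ k := by
      rw [← orderOf_dvd_iff_zpow_eq_one, ho] at hg
      exact_mod_cast hg
    obtain ⟨l, rfl⟩ := hk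
    change δ * t ^ ((3 : ℤ) * l) ∈ _
    rw [zpow_mul, show t ^ (3 : ℤ) = 1 by exact_mod_cast S.t3, one_zpow, mul_one]
    exact hδ
  rw [← hker, Subgroup.index_ker]
  have hcard : Nat.card (Multiplicative (ZMod 3)) = 3 := by simp
  haveI : Fact (Nat.Prime 3) := ⟨Nat.prime_three⟩
  haveI : Fact (Nat.card (Multiplicative (ZMod 3))).Prime := ⟨by rw [hcard]; exact Nat.prime_three⟩
  rcases f.range.eq_bot_or_eq_top_of_prime_card with h | h
  · exfalso
    apply hft
    have : f t ∈ f.range := ⟨t, rfl⟩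
    rwa [h, Subgroup.mem_bot] at this
  · rw [h, Subgroup.card_top, hcard]

theorem le_commutator : Dsub a b c d e s ≤ commutator P := by
  intro g hg
  have h : (⟨g, hg⟩ : Dsub a b c d e s) ∈ commutator (Dsub a b c d e s) := by
    rw [S.perfect]; trivial
  have := Subgroup.mem_map_of_mem (Dsub a b c d e s).subtype h
  rw [commutator_def, Subgroup.map_commutator] at this
  exact Subgroup.commutator_mono le_top le_top this

theorem normal_cases (K : Subgroup P) (hK : K.Normal) :
    K = ⊥ ∨ K = Dsub a b c d e s ∨ K = ⊤ := by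
  haveI := S.D_normal
  haveI := S.isSimple
  haveI := hK
  rcases (inferInstance : (K.subgroupOf (Dsub a b c d e s)).Normal).eq_bot_or_eq_top with h | h
  · left
    rw [Subgroup.subgroupOf_eq_bot] at h
    rw [eq_bot_iff]
    intro n hn
    rw [Subgroup.mem_bot]
    have hcomm : ∀ g ∈ Dsub a b c d e s, n * g = g * n := fun g hg =>
      Subgroup.commute_of_normal_of_disjoint K _ hK S.D_normal h n g hn hg
    have hx : ρ n x₀ = x₀ := by
      by_contra hne
      obtain ⟨g, hg, hgne⟩ := S.moved _ hne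
      apply hgne
      rw [← Equiv.Perm.mul_apply, ← map_mul, ← hcomm g (Lsub_le a b c d e s hg), map_mul,
        Equiv.Perm.mul_apply, S.L_fix hg]
    refine S.eq_one_of_fix fun y => ?_
    obtain ⟨g, hg, rfl⟩ := S.transitive y
    rw [← Equiv.Perm.mul_apply, ← map_mul, hcomm g hg, map_mul, Equiv.Perm.mul_apply, hx]
  · right
    rw [Subgroup.subgroupOf_eq_top] at h
    have hd := Subgroup.index_dvd_of_le h
    rw [S.index_eq_three] at hd
    rcases (Nat.dvd_prime Nat.prime_three).1 hd with h1 | h1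
    · exact Or.inr (Subgroup.index_eq_one.1 h1)
    · left
      refine le_antisymm (not_not.1 fun hne => ?_) h
      have hlt : Dsub a b c d e s < K := lt_of_le_not_ge h hne
      have := Subgroup.index_strictAnti hlt
      rw [S.index_eq_three, h1] at this
      omega

end Setup

end Action

end Cfsg.Agent.Lib.ThP.DSimple
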