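import Cfsg.Agent.Lib.ThP.DSimple.Core
import Cfsg.Agent.Lib.ThP.DSimple.Cert
import Cfsg.Agent.Lib.ThP.DSimple.Data

/-!
The hypotheses of `DSimple.Core` from a table of the action on 819 points.
-/

set_option autoImplicit false

namespace Cfsg.Agent.Lib.ThP.DSimple

open Cfsg.Agent.Lib.CosetEnum

/-- `a, c, d, e, s` and their inverses. -/
def fiveWords : List (List ℕ) := [[0], [4], [6], [8], [10]]

/-- The three connecting words: they lead from point 0 to the representatives 1, 6, 13. -/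
def climbWords : List (List ℕ) := [[2], [2, 0, 4, 2], [2, 4, 6, 4, 2]]

/-- The representatives of the orbits of `⟨a, c, d, e, s⟩` other than point 0. -/
def reps : List ℕ := [1, 6, 13]

/-- Words together with their inverses. -/
def withInv (ws : List (List ℕ)) : List (List ℕ) := ws ++ ws.map invWord

/-- All the finite checks on the table. -/
noncomputable def tableCheck (T : PTree) : Bool :=
  allBelow 819 (fun x => Nat.beq x 0 || stepAt 14 819 T coverForest (withInv fiveWords) reps x) &&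
  allBelow 819 (stepAt 14 819 T forest0 (withInv (fiveWords ++ [climbWords.getD 0 []])) [0]) &&
  allBelow 819 (stepAt 14 819 T forest1 (withInv (fiveWords ++ [climbWords.getD 1 []])) [0]) &&
  allBelow 819 (stepAt 14 819 T forest2 (withInv (fiveWords ++ [climbWords.getD 2 []])) [0]) &&
  Nat.beq (scan 14 T (climbWords.getD 0 []) 0) 1 && Nat.beq (scan 14 T (climbWords.getD 1 []) 0) 6 &&
  Nat.beq (scan 14 T (climbWords.getD 2 []) 0) 13 &&
  allBelow 819 (fun x => Nat.beq x 0 ||
    ([0, 4, 6, 8, 10].any fun g => !Nat.beq (get32 T (x * 14 + g)) x))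

variable {P : Type*} [Group P] [Finite P] {T : PTree} {φ : ℕ → P} {ρ : P →* Equiv.Perm (Fin 819)}

theorem setup_of_table (hρ : Acts 14 T φ ρ)
    (hinv : ∀ g < 14, φ (if g % 2 = 0 then g + 1 else g - 1) = (φ g)⁻¹)
    (hrels : Rels P (φ 0) (φ 2) (φ 4) (φ 6) (φ 8) (φ 10))
    (htc : ∀ x ∈ ({φ 0, φ 2, φ 4, φ 6, φ 8} : Set P), Commute (φ 12) x)
    (hst : (φ 12)⁻¹ * φ 10 * φ 12 = φ 10 ^ 2) (ht3 : φ 12 ^ 3 = 1)
    (hgen : Subgroup.closure ({φ 0, φ 2, φ 4, φ 6, φ 8, φ 10, φ 12} : Set P) = ⊤)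
    (hchi : ∃ f : P →* Multiplicative (ZMod 3), f (φ 12) ≠ 1 ∧
      ∀ x ∈ ({φ 0, φ 2, φ 4, φ 6, φ 8, φ 10} : Set P), f x = 1)
    (hinj : Function.Injective ρ)
    (hstab : ∀ g : P, ρ g 0 = 0 ↔
      g ∈ Subgroup.closure ({φ 0, φ 4, φ 6, φ 8, φ 10, φ 12} : Set P))
    (hT : tableCheck T = true) :
    Setup (φ 0) (φ 2) (φ 4) (φ 6) (φ 8) (φ 10) (φ 12) ρ 0 := by
  simp only [tableCheck, Bool.and_eq_true, Nat.beq_eq] at hT
  obtain ⟨⟨⟨⟨⟨⟨⟨hcov, hf0⟩, hf1⟩, hf2⟩, hw0⟩, hw1⟩, hw2⟩, hmov⟩ := hT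
  set L := Lsub (φ 0) (φ 4) (φ 6) (φ 8) (φ 10) with hL
  set D := Dsub (φ 0) (φ 2) (φ 4) (φ 6) (φ 8) (φ 10) with hD
  have h5 : ∀ w ∈ fiveWords, (w.map φ).prod ∈ L := by
    intro w hw
    simp only [fiveWords, List.mem_cons, List.not_mem_nil, or_false] at hw
    rw [hL, Lsub]
    rcases hw with rfl | rfl | rfl | rfl | rfl <;>
      simp only [List.map_cons, List.map_nil, List.prod_cons, List.prod_nil, mul_one] <;>
      exact Subgroup.subset_closure (by simp)
  have hmemInv : ∀ (H : Subgroup P) (ws : List (List ℕ)), (∀ w ∈ ws, ∀ g ∈ w, g < 14) →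
      (∀ w ∈ ws, (w.map φ).prod ∈ H) → ∀ w ∈ withInv ws, (w.map φ).prod ∈ H := by
    intro H ws hlt h w hw
    rcases List.mem_append.1 hw with hw | hw
    · exact h w hw
    · obtain ⟨v, hv, rfl⟩ := List.mem_map.1 hw
      rw [prod_invWord hinv v (hlt v hv)]
      exact H.inv_mem (h v hv)
  have hfix : ∀ g ∈ L, ρ g 0 = 0 := fun g hg => (hstab g).2 (Subgroup.closure_mono (by
    intro x hx
    simp only [Set.mem_insert_iff, Set.mem_singleton_iff] at hx ⊢
    tauto) hg)
  have hclimb : ∀ i < 3, ∀ g ∈ climbWords.getD i [], φ g ∈ D := by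
    intro i hi g hg
    have hg' : g = 0 ∨ g = 2 ∨ g = 4 ∨ g = 6 := by
      revert g hg
      revert i hi
      decide
    rcases hg' with rfl | rfl | rfl | rfl <;> exact Subgroup.subset_closure (by simp)
  refine ⟨hrels, htc, hst, ht3, hgen, hchi, hinj, hstab, fun x hx => ?_, fun x hx => ?_, ⟨1, by decide⟩⟩
  · obtain ⟨h, hh, r, hr, hhr⟩ := forest_sound hρ L (withInv fiveWords) reps (by decide)
      (hmemInv L _ (by decide) h5) (fun y => y = 0)
      (fun y hy => by simpa [Nat.beq_eq] using (allBelow_iff.1 hcov) y hy)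
      (fun u v hu ⟨g, hg, hgv⟩ hv => hu (by
        have hv0 : v = 0 := Fin.ext hv
        rw [← hgv, hv0, hfix g hg]; rfl))
      x (fun h0 => hx (Fin.ext h0))
    obtain ⟨i, hi, hir, hscan, F, hforest⟩ : ∃ i, i < 3 ∧ reps.getD i 0 = r.1 ∧
        scan 14 T (climbWords.getD i []) 0 = r.1 ∧
        ∃ F, allBelow 819 (stepAt 14 819 T F (withInv (fiveWords ++ [climbWords.getD i []])) [0]) = true := by
      simp only [reps, List.mem_cons, List.not_mem_nil, or_false] at hr
      rcases hr with hr | hr | hr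
      · exact ⟨0, by omega, hr.symm, hw0.trans hr.symm, _, hf0⟩
      · exact ⟨1, by omega, hr.symm, hw1.trans hr.symm, _, hf1⟩
      · exact ⟨2, by omega, hr.symm, hw2.trans hr.symm, _, hf2⟩
    have hlt : ∀ g ∈ climbWords.getD i [], g < 14 :=
      (by decide : ∀ i < 3, ∀ g ∈ climbWords.getD i [], g < 14) i hi
    have hlt' : ∀ v ∈ withInv (fiveWords ++ [climbWords.getD i []]), ∀ g ∈ v, g < 14 :=
      (by decide : ∀ i < 3, ∀ v ∈ withInv (fiveWords ++ [climbWords.getD i []]), ∀ g ∈ v, g < 14) i hi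
    set w := ((climbWords.getD i []).map φ).prod⁻¹ with hw
    have hwD : w ∈ D := D.inv_mem (list_prod_mem fun y hy => by
      obtain ⟨g, hg, rfl⟩ := List.mem_map.1 hy
      exact hclimb i hi g hg)
    refine ⟨h⁻¹, L.inv_mem hh, w, hwD, ?_, fun y => ?_⟩
    · rw [hw, map_inv, map_inv, ← hhr, Equiv.Perm.inv_def, Equiv.symm_apply_apply]
      refine Fin.ext ?_
      rw [← hscan]
      exact (hρ.word _ hlt 0).symm
    · obtain ⟨g, hg, r', hr', hgr⟩ := forest_sound hρ
        (Subgroup.closure ({φ 0, φ 4, φ 6, φ 8, φ 10, w} : Set P))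
        (withInv (fiveWords ++ [climbWords.getD i []])) [0] hlt'
        (hmemInv _ _ (fun v hv => by
            rcases List.mem_append.1 hv with hv | hv
            · exact (by decide : ∀ v ∈ fiveWords, ∀ g ∈ v, g < 14) v hv
            · rw [List.mem_singleton.1 hv]; exact hlt)
          (fun v hv => by
            rcases List.mem_append.1 hv with hv | hv
            · exact Subgroup.closure_mono (by
                intro u hu
                simp only [Set.mem_insert_iff, Set.mem_singleton_iff] at hu ⊢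
                tauto) (h5 v hv)
            · rw [List.mem_singleton.1 hv,
                show ((climbWords.getD i []).map φ).prod = w⁻¹ by rw [hw, inv_inv]]
              exact Subgroup.inv_mem _ (Subgroup.subset_closure (by simp))))
        (fun _ => False) (fun u hu => Or.inr ((allBelow_iff.1 hforest) u hu))
        (fun _ _ h _ => h) y id
      obtain rfl : r' = 0 := Fin.ext (by simpa using hr')
      exact ⟨g, hg, hgr⟩
  · have h := (allBelow_iff.1 hmov) x.1 x.2
    simp only [Bool.or_eq_true, Nat.beq_eq, List.any_eq_true, Bool.not_eq_true'] at h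
    obtain ⟨g, hg, hgx⟩ := h.resolve_left (fun h0 => hx (Fin.ext h0))
    simp only [List.mem_cons, List.not_mem_nil, or_false] at hg
    refine ⟨(φ g)⁻¹, L.inv_mem ?_, fun heq => ?_⟩
    · rcases hg with rfl | rfl | rfl | rfl | rfl <;> exact Subgroup.subset_closure (by simp)
    · have hh := hρ g (by rcases hg with rfl | rfl | rfl | rfl | rfl <;> omega) x
      rw [map_inv] at heq
      rw [heq] at hh
      rw [← hh, show Nat.beq x.1 x.1 = true by simp] at hgx
      exact Bool.noConfusion hgx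

end Cfsg.Agent.Lib.ThP.DSimple
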